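import Groth.Agent.Lib.Helper22.EtLoc.OverSite
import Groth.Agent.Lib.Helper22.EtLoc.LccPull
import Groth.Prelude.Def_FixPt
import Groth.Prelude.Def_EtMod2

/-!
# Localization on the small étale site for sheaves of `Λ`-modules (helper22)

Port of `EtLoc.Basic`, `EtLoc.OverSite` (Lemma R) and `EtLoc.LccPull` to `EtModW.Mod Λ`.
-/

set_option autoImplicit false

universe u

open CategoryTheory CategoryTheory.Limits Opposite AlgebraicGeometry

namespace Groth.Agent.Lib.Helper22.EtLocMod

open Groth.Agent.Lib.Helper22.CechU.Etale Groth.Agent.Lib.Helper22.EtLoc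
  Groth.Agent.Lib.Helper22.EtLoc.OverSite

variable (Λ : Type (u + 1)) [CommRing Λ]

section Res

variable {X Y : Scheme.{u}} (j : Y ⟶ X) [hj : Etale j]

/-- Restriction of sheaves of `Λ`-modules along an étale morphism. -/
noncomputable def res : EtModW.Mod Λ X ⥤ EtModW.Mod Λ Y :=
  (pj j).sheafPushforwardContinuous (ModuleCat.{u + 1} Λ) Y.smallEtaleTopology
    X.smallEtaleTopology

/-- `res j ⊣ push j`. -/
noncomputable def resPushAdj : res Λ j ⊣ EtModW.push Λ j :=
  (pjAdj j).sheafPushforwardContinuous _ _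

/-- Pullback along an étale morphism is restriction. -/
noncomputable def pullIsoRes : EtModW.pull Λ j ≅ res Λ j :=
  Adjunction.leftAdjointUniq (FixPt.pullPushAdj j) (resPushAdj Λ j)

end Res

section Over

variable {X : Scheme.{u}} (U : X.Etale)

/-- The equivalence between sheaves of modules on `U.left` and on the over-site of `U`. -/
noncomputable abbrev shEquiv :
    EtModW.Mod Λ U.left ≌ Sheaf (X.smallEtaleTopology.over U) (ModuleCat.{u + 1} Λ) :=
  Functor.IsDenseSubsite.sheafEquiv (U.left).smallEtaleTopology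
    (X.smallEtaleTopology.over U) (toOver U) (ModuleCat.{u + 1} Λ)

lemma shEquiv_inverse_obj (F : EtModW.Mod Λ X) :
    (shEquiv Λ U).inverse.obj (EtModW.restr Λ F U) = (res Λ U.hom).obj F := rfl

/-- Constant sheaves correspond under the equivalence. -/
noncomputable def constIso :
    constantSheaf (U.left).smallEtaleTopology (ModuleCat.{u + 1} Λ) ⋙ (shEquiv Λ U).functor ≅
      constantSheaf (X.smallEtaleTopology.over U) (ModuleCat.{u + 1} Λ) :=
  equivCommuteConstant (U.left).smallEtaleTopology (ModuleCat.{u + 1} Λ)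
    (X.smallEtaleTopology.over U) (toOver U) (EtCore.topIsTerminal U.left) (toOverTopIsTerminal U)

/-- Constant sheaves correspond under the equivalence (inverse direction). -/
noncomputable def constIso' :
    constantSheaf (U.left).smallEtaleTopology (ModuleCat.{u + 1} Λ) ≅
      constantSheaf (X.smallEtaleTopology.over U) (ModuleCat.{u + 1} Λ) ⋙ (shEquiv Λ U).inverse :=
  equivCommuteConstant' (U.left).smallEtaleTopology (ModuleCat.{u + 1} Λ)
    (X.smallEtaleTopology.over U) (toOver U) (EtCore.topIsTerminal U.left) (toOverTopIsTerminal U)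

/-- **Lemma R** for modules. -/
theorem restr_iso_const_iff (F : EtModW.Mod Λ X) (M : ModuleCat.{u + 1} Λ) :
    Nonempty (EtModW.restr Λ F U ≅
        (constantSheaf (X.smallEtaleTopology.over U) (ModuleCat.{u + 1} Λ)).obj M) ↔
      Nonempty ((EtModW.pull Λ U.hom).obj F ≅
        (constantSheaf (U.left).smallEtaleTopology (ModuleCat.{u + 1} Λ)).obj M) := by
  constructor
  · rintro ⟨e⟩
    exact ⟨(pullIsoRes Λ U.hom).app F ≪≫ (shEquiv Λ U).inverse.mapIso e ≪≫
      ((constIso' Λ U).app M).symm⟩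
  · rintro ⟨e⟩
    have e1 : (res Λ U.hom).obj F ≅
        (constantSheaf (U.left).smallEtaleTopology (ModuleCat.{u + 1} Λ)).obj M :=
      ((pullIsoRes Λ U.hom).app F).symm ≪≫ e
    exact ⟨((shEquiv Λ U).counitIso.app (EtModW.restr Λ F U)).symm ≪≫
      (shEquiv Λ U).functor.mapIso e1 ≪≫ (constIso Λ U).app M⟩

end Over

section LccPull

variable {X Y : Scheme.{u}}

/-- If the pullback of `G` along `g` is constant, so is its pullback along `h ≫ g`. -/
theorem pull_comp_iso_const {Z : Scheme.{u}} (h : Z ⟶ X) (g : X ⟶ Y) (G : EtModW.Mod Λ Y)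
    (M : ModuleCat.{u + 1} Λ)
    (e : Nonempty ((EtModW.pull Λ g).obj G ≅
      (constantSheaf X.smallEtaleTopology (ModuleCat.{u + 1} Λ)).obj M)) :
    Nonempty ((EtModW.pull Λ (h ≫ g)).obj G ≅
      (constantSheaf Z.smallEtaleTopology (ModuleCat.{u + 1} Λ)).obj M) := by
  obtain ⟨e⟩ := e
  exact ⟨(FixPt.pullComp h g).app G ≪≫ (EtModW.pull Λ h).mapIso e ≪≫
    (FixPt.pullConstIso h).app M⟩

/-- Restriction of `f^* G` to the base change of `U` is constant when `G|_U` is. -/
theorem restr_bc_iso_const (f : X ⟶ Y) (G : EtModW.Mod Λ Y) (U : Y.Etale)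
    (M : ModuleCat.{u + 1} Λ)
    (e : Nonempty (EtModW.restr Λ G U ≅
      (constantSheaf (Y.smallEtaleTopology.over U) (ModuleCat.{u + 1} Λ)).obj M)) :
    Nonempty (EtModW.restr Λ ((EtModW.pull Λ f).obj G) ((EtCoh.bc f).obj U) ≅
      (constantSheaf (X.smallEtaleTopology.over ((EtCoh.bc f).obj U))
        (ModuleCat.{u + 1} Λ)).obj M) := by
  rw [restr_iso_const_iff] at e ⊢
  have h1 := pull_comp_iso_const Λ (pullback.fst U.hom f) U.hom G M e
  have hc : pullback.fst U.hom f ≫ U.hom = ((EtCoh.bc f).obj U).hom ≫ f := pullback.condition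
  obtain ⟨e1⟩ := h1
  exact ⟨((FixPt.pullComp ((EtCoh.bc f).obj U).hom f).app G).symm ≪≫
    (FixPt.pullCongr hc.symm).app G ≪≫ e1⟩

theorem isFTLocConst_pull (f : X ⟶ Y) (G : EtModW.Mod Λ Y) (h : EtModW.IsFTLocConst Λ G) :
    EtModW.IsFTLocConst Λ ((EtModW.pull Λ f).obj G) := by
  obtain ⟨ι, U, hU, hM⟩ := h
  refine ⟨ι, fun i => (EtCoh.bc f).obj (U i), LccPull.covers_bc f U hU, fun i => ?_⟩
  obtain ⟨M, i1, i2, i3, e⟩ := hM i
  exact ⟨M, i1, i2, i3, restr_bc_iso_const Λ f G (U i) _ e⟩

end LccPull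

end Groth.Agent.Lib.Helper22.EtLocMod
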