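import Groth.Agent.Lib.Helper22.Strata.Main
import Groth.Agent.Lib.Helper22.EtLocMod.Basic

/-!
# Adapted stratifications and constructibility for étale sheaves of `Λ`-modules (helper22)

Port of `Strata.Adapted` / `Strata.Main` to `EtModW.Mod Λ`.
-/

set_option autoImplicit false

universe u

open CategoryTheory CategoryTheory.Limits AlgebraicGeometry Set TopologicalSpace

namespace Groth.Agent.Lib.Helper22.EtLocMod

open Groth.Agent.Lib.Helper22.EtLoc Groth.Agent.Lib.Helper22.Strata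

variable (Λ : Type (u + 1)) [CommRing Λ] {X : Scheme.{u}}

lemma isFTLocConst_of_iso {F G : EtModW.Mod Λ X} (e : F ≅ G)
    (h : EtModW.IsFTLocConst Λ F) : EtModW.IsFTLocConst Λ G := by
  obtain ⟨ι, U, hU, hM⟩ := h
  refine ⟨ι, U, hU, fun i => ?_⟩
  obtain ⟨M, i1, i2, i3, ⟨a⟩⟩ := hM i
  exact ⟨M, i1, i2, i3,
    ⟨(X.smallEtaleTopology.overPullback (ModuleCat.{u + 1} Λ) (U i)).mapIso e.symm ≪≫ a⟩⟩

/-- The pullback of `F` along `g` is finite type locally constant. -/
def PF (F : EtModW.Mod Λ X) : MorProp X :=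
  fun _ g => EtModW.IsFTLocConst Λ ((EtModW.pull Λ g).obj F)

lemma PF_stable (F : EtModW.Mod Λ X) : (PF Λ F).Stable := by
  intro T T' h g hg
  exact isFTLocConst_of_iso Λ ((FixPt.pullComp h g).app F).symm
    (isFTLocConst_pull Λ h _ hg)

lemma PF_comp {Y : Scheme.{u}} (f : Y ⟶ X) (F : EtModW.Mod Λ X) {T : Scheme.{u}} (g : T ⟶ Y) :
    PF Λ ((EtModW.pull Λ f).obj F) g ↔ PF Λ F (g ≫ f) := by
  constructor
  · intro h
    exact isFTLocConst_of_iso Λ ((FixPt.pullComp g f).app F).symm h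
  · intro h
    exact isFTLocConst_of_iso Λ ((FixPt.pullComp g f).app F) h

lemma adaptedStrata_iff (F : EtModW.Mod Λ X) (S : Set X) :
    EtModW.AdaptedStrata Λ F S ↔ StIn (PF Λ F) S S := by
  constructor
  · rintro ⟨n, T, g, him, hc, hdis, hun, hP⟩
    exact ⟨Fin n, inferInstance, T, g, him, hc, hdis, hun, fun i => hP i⟩
  · rintro ⟨ι, fin, T, g, him, hc, hdis, hun, hP⟩
    let e : ι ≃ Fin (Nat.card ι) := Finite.equivFin ι
    refine ⟨Nat.card ι, fun k => T (e.symm k), fun k => g (e.symm k), fun k => him _,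
      fun k => hc _, ?_, ?_, fun k => hP _⟩
    · intro k l hkl
      exact hdis (fun h => hkl (e.symm.injective h))
    · rw [← hun]
      exact e.symm.surjective.iUnion_comp (fun i => Set.range (g i))

/-- Pullback of a stratification of an affine open along a morphism, over an affine open of the
source mapping into it. -/
lemma stIn_pull {Y : Scheme.{u}} (f : X ⟶ Y) (F : EtModW.Mod Λ Y) (W : X.Opens) (V' : Y.Opens)
    (hW : IsAffineOpen W) (hV' : IsAffineOpen V') (hWV : W ≤ f ⁻¹ᵁ V')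
    (h : StIn (PF Λ F) (V' : Set Y) (V' : Set Y)) :
    StIn (PF Λ ((EtModW.pull Λ f).obj F)) (W : Set X) (W : Set X) := by
  obtain ⟨ι, fin, T, g, him, hc, hdis, hun, hP⟩ := h
  have := him
  have := quasiSeparatedSpace_of_isAffineOpen hW
  have := compactSpace_of_isAffineOpen hV'
  have hmaps : MapsTo f (W : Set X) (V' : Set Y) := fun x hx => hWV hx
  have hr : ∀ i, Set.range (pullback.snd (g i) (W.ι ≫ f) ≫ W.ι) =
      (W : Set X) ∩ f ⁻¹' Set.range (g i) := by
    intro i
    rw [range_comp_eq, Scheme.Pullback.range_snd]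
    have : (W.ι ≫ f) ⁻¹' Set.range (g i) = W.ι ⁻¹' (f ⁻¹' Set.range (g i)) := by
      ext x
      simp only [mem_preimage]
      rw [Scheme.Hom.comp_apply]
    rw [this, Set.image_preimage_eq_inter_range, Scheme.Opens.range_ι, inter_comm]
  refine ⟨ι, fin, fun i => pullback (g i) (W.ι ≫ f),
    fun i => pullback.snd (g i) (W.ι ≫ f) ≫ W.ι, fun i => inferInstance, fun i => ?_, ?_, ?_,
    fun i => ?_⟩
  · rw [hr]
    have h1 : CIn (W : Set X) (f ⁻¹' Set.range (g i)) :=
      CIn.preimage f.continuous hmaps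
        (fun O hO hOc => isCompact_inter_preimage f W V' hW hV' hWV O hO hOc) (hc i)
    refine h1.congr ?_
    rw [inter_comm (W : Set X), inter_assoc, inter_self]
  · intro i k hik
    rw [hr, hr]
    refine Disjoint.mono inter_subset_right inter_subset_right ?_
    exact (hdis hik).preimage f
  · have : (⋃ i, Set.range (pullback.snd (g i) (W.ι ≫ f) ≫ W.ι)) =
        (W : Set X) ∩ f ⁻¹' (⋃ i, Set.range (g i)) := by
      rw [preimage_iUnion, inter_iUnion]
      exact iUnion_congr hr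
    rw [this, hun]
    exact inter_eq_left.2 hmaps
  · rw [PF_comp]
    have hcond : (pullback.snd (g i) (W.ι ≫ f) ≫ W.ι) ≫ f =
        pullback.fst (g i) (W.ι ≫ f) ≫ g i := by
      rw [Category.assoc]
      exact pullback.condition.symm
    have h2 : PF Λ F (pullback.fst (g i) (W.ι ≫ f) ≫ g i) := PF_stable Λ F _ _ (hP i)
    change EtModW.IsFTLocConst Λ _ at h2 ⊢
    rw [hcond]
    exact h2

/-- The pullback of a constructible sheaf of `Λ`-modules is constructible. -/
theorem isConstructible_pull {Y : Scheme.{u}} (f : X ⟶ Y) (F : EtModW.Mod Λ Y)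
    (hF : EtModW.IsConstructible Λ F) : EtModW.IsConstructible Λ ((EtModW.pull Λ f).obj F) := by
  intro V hV
  rw [adaptedStrata_iff]
  have hqs := quasiSeparatedSpace_of_isAffineOpen hV
  obtain ⟨n, W, hWa, hWQ, hVW⟩ := exists_finite_affine_cover V hV.isCompact
    (fun W => ∃ V' : Y.Opens, IsAffineOpen V' ∧ W ≤ f ⁻¹ᵁ V') (by
      intro x hx
      obtain ⟨V', hV', hxV', -⟩ := Opens.isBasis_iff_nbhd.1 Y.isBasis_affineOpens
        (show f x ∈ (⊤ : Y.Opens) from trivial)
      obtain ⟨W, hW, hxW, hWle⟩ := Opens.isBasis_iff_nbhd.1 X.isBasis_affineOpens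
        (show x ∈ V ⊓ f ⁻¹ᵁ V' from ⟨hx, hxV'⟩)
      exact ⟨W, hW, hxW, hWle.trans inf_le_left, V', hV', hWle.trans inf_le_right⟩)
  refine StIn.of_finite_open_cover (PF_stable Λ _) (fun k => (W k : Set X)) hVW
    (fun k => (W k).isOpen) (fun k => (hWa k).isCompact) (fun k => ?_)
  obtain ⟨V', hV', hle⟩ := hWQ k
  exact stIn_pull Λ f F (W k) V' (hWa k) hV' hle ((adaptedStrata_iff Λ _ _).1 (hF V' hV'))

/-- Constructibility is invariant under isomorphism. -/
theorem isConstructible_of_iso {F G : EtModW.Mod Λ X} (e : F ≅ G)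
    (h : EtModW.IsConstructible Λ F) : EtModW.IsConstructible Λ G := by
  intro V hV
  obtain ⟨n, T, g, him, hc, hdis, hun, hP⟩ := h V hV
  exact ⟨n, T, g, him, hc, hdis, hun,
    fun i => isFTLocConst_of_iso Λ ((EtModW.pull Λ (g i)).mapIso e) (hP i)⟩

end Groth.Agent.Lib.Helper22.EtLocMod
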